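import Mathlib
import Cfsg.Agent.Lib.PGroup.Basic

/-!
# Camina `r`-groups with a transitive group of automorphisms

`exists_pow_eq_one`: an `r`-group (`r` odd) in which every element outside a normal subgroup `L`
with abelian elementary quotient has class a coset of `L`, with suitable automorphisms, has an
element of order `r` outside `L`.
-/

set_option autoImplicit false

namespace CfsgLib.Camina

open Subgroup
open scoped commutatorElement

variable {R : Type*} [Group R]

theorem fixed_of_small_index [Finite R] {r l m : ℕ} (hr : r.Prime) (hl : l.Prime) (hlr : l ≠ r)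
    (hR : IsPGroup r R) (φ : MulAut R) (hφ : ∃ a, φ ^ l ^ a = 1) (T : Subgroup R)
    (hfix : ∀ t ∈ T, φ t = t) (hidx : T.index < r ^ m)
    (hprim : ∀ i, 1 ≤ i → i < m → ¬ l ∣ r ^ i - 1) : ∀ x, φ x = x := by
  classical
  haveI := Fact.mk hl
  haveI := Fact.mk hr
  let F : Subgroup R := φ.toMonoidHom.eqLocus (MonoidHom.id R)
  have hmemF : ∀ x, x ∈ F ↔ φ x = x := fun x => Iff.rfl
  have hTF : T ≤ F := fun t ht => hfix t ht
  have hS : IsPGroup l (Subgroup.zpowers φ) := by
    obtain ⟨a, ha⟩ := hφ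
    obtain ⟨k, -, hk⟩ := (Nat.dvd_prime_pow hl).1 (orderOf_dvd_of_pow_eq_one ha)
    exact IsPGroup.of_card (n := k) (by rw [Nat.card_zpowers, hk])
  have hfp : MulAction.fixedPoints (Subgroup.zpowers φ) R = (F : Set R) := by
    ext x
    constructor
    · intro h; exact h ⟨φ, Subgroup.mem_zpowers φ⟩
    · rintro (h : φ x = x) ⟨s, hs⟩
      have hle : Subgroup.zpowers φ ≤ MulAction.stabilizer (MulAut R) x := by
        rw [Subgroup.zpowers_le]; exact h
      exact hle hs
  have hmod := hS.card_modEq_card_fixedPoints R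
  rw [hfp, SetLike.coe_sort_coe, ← F.index_mul_card] at hmod
  obtain ⟨i, hi⟩ := hR.index F
  obtain ⟨j, hj⟩ := IsPGroup.iff_card.1 (hR.to_subgroup F)
  have hcop : Nat.gcd l (Nat.card F) = 1 := by
    rw [hj]; exact Nat.Coprime.pow_right _ ((Nat.coprime_primes hl hr).2 hlr)
  have h1 : r ^ i ≡ 1 [MOD l] := by
    refine Nat.ModEq.cancel_right_of_coprime hcop ?_
    rw [one_mul, ← hi]; exact hmod
  have hdvd : l ∣ r ^ i - 1 := (Nat.modEq_iff_dvd' (Nat.one_le_pow _ _ hr.pos)).1 h1.symm
  have hle : F.index ≤ T.index :=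
    Nat.le_of_dvd (Nat.pos_of_ne_zero T.index_ne_zero_of_finite) (Subgroup.index_dvd_of_le hTF)
  have him : i < m := (Nat.pow_lt_pow_iff_right hr.one_lt).1 (by omega)
  have hi0 : i = 0 := by
    by_contra h; exact hprim i (Nat.one_le_iff_ne_zero.2 h) him hdvd
  have htop : F = ⊤ := Subgroup.index_eq_one.1 (by rw [hi, hi0, pow_zero])
  intro x
  exact (hmemF x).1 (htop ▸ Subgroup.mem_top x)

variable (L : Subgroup R)

/-- Every element outside `L` is conjugate to its whole coset. -/
def IsCosetClass : Prop := ∀ x ∉ L, ∀ l ∈ L, ∃ y, y * x * y⁻¹ = x * l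

variable {L}

theorem card_centralizer_le [Finite R] (h : IsCosetClass L) {x : R} (hx : x ∉ L) :
    Nat.card (centralizer ({x} : Set R)) ≤ L.index := by
  classical
  choose y hy using fun l : L => h x hx l l.2
  have hinj : Function.Injective (fun l : L => (QuotientGroup.mk (y l) : R ⧸ centralizer ({x} : Set R))) := by
    intro a b hab
    have h1 : (y a)⁻¹ * y b * x = x * ((y a)⁻¹ * y b) :=
      (mem_centralizer_singleton_iff.1 (QuotientGroup.eq.1 hab))
    apply Subtype.ext
    have h2 : y a * x * (y a)⁻¹ = y b * x * (y b)⁻¹ := by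
      calc y a * x * (y a)⁻¹ = y a * (x * ((y a)⁻¹ * y b)) * (y b)⁻¹ := by group
        _ = y a * ((y a)⁻¹ * y b * x) * (y b)⁻¹ := by rw [h1]
        _ = _ := by group
    rw [hy, hy] at h2
    exact mul_left_cancel h2
  have h1 : Nat.card L ≤ (centralizer ({x} : Set R)).index := Nat.card_le_card_of_injective _ hinj
  have h2 := (centralizer ({x} : Set R)).index_mul_card
  have h3 := L.index_mul_card
  have h4 : Nat.card L * Nat.card (centralizer ({x} : Set R)) ≤ L.index * Nat.card L := by
    rw [h3, ← h2]; exact Nat.mul_le_mul_right _ h1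
  rw [mul_comm L.index] at h4
  exact Nat.le_of_mul_le_mul_left h4 Nat.card_pos

theorem card_lt_mul [Finite R] [hLn : L.Normal] (h : IsCosetClass L) {x : R} (hx : x ∉ L)
    {T T' : Subgroup R} (hT : T ≤ L) (hT' : T' ≤ L) (hTT : ∀ t ∈ T, ⁅t, x⁆ ∈ T') :
    Nat.card T < L.index * Nat.card T' := by
  classical
  have hex : ∀ t : T', ∃ y, y * x * y⁻¹ = (t : R) * x := by
    intro t
    obtain ⟨y, hy⟩ := h x hx (x⁻¹ * (t : R) * x) (hLn.conj_mem' _ (hT' t.2) x)
    exact ⟨y, by rw [hy]; group⟩
  choose y hy using hex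
  have hdom : ∀ o : Option T, ∃ t : T', ∃ c : centralizer ({x} : Set R),
      (Option.elim o x (fun t => (t : R))) = y t * c := by
    intro o
    have hmem : ⁅Option.elim o x (fun t => (t : R)), x⁆ ∈ T' := by
      cases o with
      | none => simp only [Option.elim_none, commutatorElement_self]; exact one_mem _
      | some t => exact hTT t t.2
    generalize Option.elim o x (fun t => (t : R)) = z at hmem ⊢
    refine ⟨⟨_, hmem⟩, ⟨(y ⟨_, hmem⟩)⁻¹ * z, mem_centralizer_singleton_iff.2 ?_⟩, by simp⟩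
    have h1 := hy ⟨_, hmem⟩
    generalize y ⟨_, hmem⟩ = w at h1 ⊢
    simp only [commutatorElement_def] at h1
    have h2 : w * x * w⁻¹ = z * x * z⁻¹ := by rw [h1]; group
    calc w⁻¹ * z * x = w⁻¹ * (z * x * z⁻¹) * z := by group
      _ = w⁻¹ * (w * x * w⁻¹) * z := by rw [h2]
      _ = x * (w⁻¹ * z) := by group
  choose a c hac using hdom
  have hinj : Function.Injective (fun o : Option T => (a o, c o)) := by
    intro o o' he
    simp only [Prod.mk.injEq] at he
    have h1 : Option.elim o x (fun t => (t : R)) = Option.elim o' x (fun t => (t : R)) := by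
      rw [hac, hac, he.1, he.2]
    cases o with
    | none =>
      cases o' with
      | none => rfl
      | some t => exact absurd (hT t.2) (by simp at h1; rwa [← h1])
    | some t =>
      cases o' with
      | none => exact absurd (hT t.2) (by simp at h1; rwa [h1])
      | some t' => simp at h1; rw [h1]
  have h1 := Nat.card_le_card_of_injective _ hinj
  rw [Nat.card_prod, Finite.card_option] at h1
  have h2 := Nat.mul_le_mul_left (Nat.card T') (card_centralizer_le h hx)
  rw [mul_comm L.index]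
  omega

theorem eq_bot_of_le_commutator_top [Group.IsNilpotent R] {T : Subgroup R}
    (hT : T ≤ ⁅T, (⊤ : Subgroup R)⁆) : T = ⊥ := by
  have h : ∀ n, T ≤ (⊤ : Subgroup R).lowerCentralSeries n := by
    intro n
    induction n with
    | zero => simp
    | succ n ih => exact hT.trans (Subgroup.commutator_mono ih le_rfl)
  obtain ⟨n, hn⟩ := Subgroup.nilpotent_iff_lowerCentralSeries.1 ‹Group.IsNilpotent R›
  exact le_bot_iff.1 (hn ▸ h n)

theorem map_commutator_top_le {T : Subgroup R} (φ : MulAut R) (hT : T.map φ.toMonoidHom ≤ T) :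
    (⁅T, (⊤ : Subgroup R)⁆).map φ.toMonoidHom ≤ ⁅T, (⊤ : Subgroup R)⁆ := by
  rw [Subgroup.map_commutator]
  exact Subgroup.commutator_mono hT le_top

theorem fixed_on_sub [Finite R] {r l m : ℕ} (hr : r.Prime) (hl : l.Prime) (hlr : l ≠ r)
    (hR : IsPGroup r R) [L.Normal] (hcl : IsCosetClass L) (hidx : L.index = r ^ m)
    {x : R} (hx : x ∉ L) (φ : MulAut R) (hφ : ∃ a, φ ^ l ^ a = 1)
    (hprim : ∀ i, 1 ≤ i → i < m → ¬ l ∣ r ^ i - 1) :
    ∀ T : Subgroup R, T.Normal → T ≤ L → T.map φ.toMonoidHom ≤ T → ∀ t ∈ T, φ t = t := by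
  classical
  haveI := Fact.mk hr
  haveI : Group.IsNilpotent R := hR.isNilpotent
  intro T
  induction hn : Nat.card T using Nat.strong_induction_on generalizing T with
  | _ n ih =>
    intro hTn hTL hTφ t ht
    haveI := hTn
    by_cases hbot : T = ⊥
    · subst hbot; rw [mem_bot] at ht; subst ht; exact map_one φ
    set T' : Subgroup R := ⁅T, (⊤ : Subgroup R)⁆ with hT'
    have hle : T' ≤ T := Subgroup.commutator_le_left T ⊤
    have hlt : Nat.card T' < Nat.card T := by
      refine lt_of_le_of_ne (Subgroup.card_le_of_le hle) fun he => hbot ?_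
      exact eq_bot_of_le_commutator_top (le_of_eq (Subgroup.eq_of_le_of_card_ge hle he.ge).symm)
    have hfix := ih _ (hn ▸ hlt) T' rfl inferInstance (hle.trans hTL) (map_commutator_top_le φ hTφ)
    have hmap : T.map φ.toMonoidHom = T := by
      refine Subgroup.eq_of_le_of_card_ge hTφ (le_of_eq ?_)
      exact Nat.card_congr (φ.subgroupMap T).toEquiv
    let e : MulAut T := (φ.subgroupMap T).trans (MulEquiv.subgroupCongr hmap)
    have he : ∀ (k : ℕ) (s : T), ((e ^ k) s : R) = (φ ^ k) (s : R) := by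
      intro k
      induction k with
      | zero => intro s; rfl
      | succ k ihk =>
        intro s
        rw [pow_succ, pow_succ, MulAut.mul_apply, MulAut.mul_apply, ihk]
        rfl
    have hgap : (T'.subgroupOf T).index < r ^ m := by
      have h := card_lt_mul hcl hx hTL (hle.trans hTL)
        (fun s hs => Subgroup.commutator_mem_commutator hs (mem_top x))
      have h2 := (T'.subgroupOf T).index_mul_card
      rw [Nat.card_congr (Subgroup.subgroupOfEquivOfLe hle).toEquiv] at h2
      rw [← hidx]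
      rw [← h2] at h
      exact Nat.lt_of_mul_lt_mul_right h
    have hres := fixed_of_small_index hr hl hlr (hR.to_subgroup T) e (by
      obtain ⟨a, ha⟩ := hφ
      exact ⟨a, MulEquiv.ext fun s => Subtype.ext (by rw [he, ha]; rfl)⟩) (T'.subgroupOf T)
      (fun s hs => Subtype.ext (by
        have h := he 1 s
        rw [pow_one, pow_one] at h
        rw [h]; exact hfix _ hs)) hgap hprim ⟨t, ht⟩
    have h := he 1 ⟨t, ht⟩
    rw [pow_one, pow_one, hres] at h
    exact h.symm

theorem le_center_of_fpf [Finite R] {r l m : ℕ} (hr : r.Prime) (hl : l.Prime) (hlr : l ≠ r)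
    (hR : IsPGroup r R) [L.Normal] (hcl : IsCosetClass L) (hidx : L.index = r ^ m)
    (hcomm : ∀ a b : R, ⁅a, b⁆ ∈ L) {x : R} (hx : x ∉ L) (φ : MulAut R)
    (hφ : ∃ a, φ ^ l ^ a = 1) (hφL : L.map φ.toMonoidHom ≤ L)
    (hfree : ∀ y, y⁻¹ * φ y ∈ L → y ∈ L) (hprim : ∀ i, 1 ≤ i → i < m → ¬ l ∣ r ^ i - 1) :
    L ≤ center R := by
  classical
  haveI := Fact.mk hr
  have hfix : ∀ t ∈ L, φ t = t := fixed_on_sub hr hl hlr hR hcl hidx hx φ hφ hprim L ‹_› le_rfl hφL
  have hab : ∀ a b : R ⧸ L, a * b = b * a := by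
    intro a b
    induction a using QuotientGroup.induction_on with
    | _ a =>
      induction b using QuotientGroup.induction_on with
      | _ b =>
        rw [← QuotientGroup.mk_mul, ← QuotientGroup.mk_mul, QuotientGroup.eq]
        have h := hcomm b⁻¹ a⁻¹
        rwa [commutatorElement_def, inv_inv, inv_inv, show b⁻¹ * a⁻¹ * b * a = (a * b)⁻¹ * (b * a) by group] at h
  let D : R →* R ⧸ L :=
    { toFun := fun y => (QuotientGroup.mk y)⁻¹ * QuotientGroup.mk (φ y)
      map_one' := by simp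
      map_mul' := fun a b => by
        simp only [map_mul, QuotientGroup.mk_mul, mul_inv_rev]
        generalize (QuotientGroup.mk a : R ⧸ L) = a'
        generalize (QuotientGroup.mk b : R ⧸ L) = b'
        generalize (QuotientGroup.mk (φ a) : R ⧸ L) = c
        generalize (QuotientGroup.mk (φ b) : R ⧸ L) = d
        calc b'⁻¹ * a'⁻¹ * (c * d) = b'⁻¹ * (a'⁻¹ * c) * d := by group
          _ = a'⁻¹ * c * b'⁻¹ * d := by rw [hab b'⁻¹]
          _ = _ := by group }
  have hker : D.ker = L := by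
    ext y
    rw [MonoidHom.mem_ker]
    show (QuotientGroup.mk y : R ⧸ L)⁻¹ * QuotientGroup.mk (φ y) = 1 ↔ _
    rw [← QuotientGroup.mk_inv, ← QuotientGroup.mk_mul, QuotientGroup.eq_one_iff]
    refine ⟨hfree y, fun hy => ?_⟩
    rw [hfix y hy, inv_mul_cancel]; exact one_mem _
  have hsurj : Function.Surjective D := by
    rw [← MonoidHom.range_eq_top]
    refine Subgroup.eq_top_of_card_eq _ ?_
    rw [← Subgroup.index_ker, hker]; rfl
  have hC : centralizer (L : Set R) ⊔ L = ⊤ := by
    rw [eq_top_iff]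
    intro z _
    obtain ⟨y, hy⟩ := hsurj (QuotientGroup.mk z)
    have hc : y⁻¹ * φ y ∈ centralizer (L : Set R) := by
      rw [mem_centralizer_iff]
      intro t ht
      have ht' : y * t * y⁻¹ ∈ L := Subgroup.Normal.conj_mem ‹_› t ht y
      have h := hfix _ ht'
      simp only [map_mul, map_inv, hfix t ht] at h
      calc t * (y⁻¹ * φ y) = y⁻¹ * (y * t * y⁻¹) * φ y := by group
        _ = y⁻¹ * (φ y * t * (φ y)⁻¹) * φ y := by rw [h]
        _ = y⁻¹ * φ y * t := by group
    have hz : (y⁻¹ * φ y)⁻¹ * z ∈ L := QuotientGroup.eq.1 (by simpa [D] using hy)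
    rw [show z = (y⁻¹ * φ y) * ((y⁻¹ * φ y)⁻¹ * z) by group]
    exact mul_mem_sup hc hz
  haveI : Group.IsNilpotent R := hR.isNilpotent
  have hLfr : L ≤ frattini R := by
    intro t ht
    obtain ⟨y, hy⟩ := hcl x hx t ht
    have ht' : t = ⁅x⁻¹, y⁆ := by
      rw [commutatorElement_def, inv_inv, ← mul_right_inj x, ← hy]; group
    exact (CfsgLib.PGroup.commutator_le_frattini hR)
      (ht' ▸ Subgroup.commutator_mem_commutator (mem_top _) (mem_top _))
  have hCtop : centralizer (L : Set R) = ⊤ :=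
    frattini_nongenerating (eq_top_iff.2 (hC ▸ sup_le_sup_left hLfr _))
  intro t ht
  rw [mem_center_iff]
  intro g
  exact ((mem_centralizer_iff.1 (hCtop ▸ mem_top g : g ∈ centralizer (L : Set R))) t ht).symm

theorem le_center_of_sq [Finite R] {r : ℕ} (hr : r.Prime) (hR : IsPGroup r R) [L.Normal]
    (hcl : IsCosetClass L) (hidx : L.index = r ^ 2) {x : R} (hx : x ∉ L)
    (htrans : ∀ a b : R, a ∉ L → b ∉ L → ∃ φ : MulAut R, L.map φ.toMonoidHom ≤ L ∧ (φ a)⁻¹ * b ∈ L) :
    L ≤ center R := by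
  classical
  haveI := Fact.mk hr
  haveI : Group.IsNilpotent R := hR.isNilpotent
  rw [← centralizer_univ, ← coe_top, ← Subgroup.commutator_eq_bot_iff_le_centralizer]
  set L₁ : Subgroup R := ⁅L, (⊤ : Subgroup R)⁆ with hL₁
  set L₂ : Subgroup R := ⁅L₁, (⊤ : Subgroup R)⁆ with hL₂
  by_contra hne
  have h1L : L₁ ≤ L := Subgroup.commutator_le_left L ⊤
  have h21 : L₂ ≤ L₁ := Subgroup.commutator_le_left L₁ ⊤
  have hn21 : ¬ L₁ ≤ L₂ := fun h => hne (eq_bot_of_le_commutator_top h)
  have hn10 : ¬ L ≤ L₁ := fun h => by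
    refine hne ?_
    have hb := eq_bot_of_le_commutator_top h
    exact le_bot_iff.1 (h1L.trans hb.le)
  haveI : L₁.Normal := inferInstance
  haveI : L₂.Normal := inferInstance
  have hgap : ∀ T : Subgroup R, T ≤ L → ¬ T ≤ ⁅T, (⊤ : Subgroup R)⁆ → ⁅T, (⊤ : Subgroup R)⁆ ≤ T →
      ((⁅T, (⊤ : Subgroup R)⁆).subgroupOf T).index = r := by
    intro T hTL hnle hle
    have h := card_lt_mul hcl hx hTL (hle.trans hTL)
      (fun s hs => Subgroup.commutator_mem_commutator hs (mem_top x))
    have h2 := ((⁅T, (⊤ : Subgroup R)⁆).subgroupOf T).index_mul_card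
    rw [Nat.card_congr (Subgroup.subgroupOfEquivOfLe hle).toEquiv] at h2
    rw [← h2, hidx] at h
    obtain ⟨i, hi⟩ := (hR.to_subgroup T).index ((⁅T, (⊤ : Subgroup R)⁆).subgroupOf T)
    rw [hi] at h ⊢
    have hi2 : i < 2 := (Nat.pow_lt_pow_iff_right hr.one_lt).1 (Nat.lt_of_mul_lt_mul_right h)
    have hi0 : i ≠ 0 := fun h0 => by
      rw [h0, pow_zero, Subgroup.index_eq_one, Subgroup.subgroupOf_eq_top] at hi
      exact hnle hi
    rw [show i = 1 by omega, pow_one]
  have hi0 := hgap L le_rfl hn10 h1L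
  have hi1 := hgap L₁ h1L hn21 h21
  rw [← hL₁] at hi0
  rw [← hL₂] at hi1
  let π := QuotientGroup.mk' L₂
  have hcen : ∀ t ∈ L₁, π t ∈ center (R ⧸ L₂) := by
    intro t ht
    rw [mem_center_iff]
    intro g
    obtain ⟨g, rfl⟩ := QuotientGroup.mk'_surjective L₂ g
    have h : π ⁅t, g⁆ = 1 := (QuotientGroup.eq_one_iff _).2
      (Subgroup.commutator_mem_commutator ht (mem_top g))
    rw [map_commutatorElement, commutatorElement_eq_one_iff_commute] at h
    exact h.eq.symm
  obtain ⟨l₀, hl₀, hl₀'⟩ := SetLike.not_le_iff_exists.1 hn10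
  have hgen : L ≤ zpowers l₀ ⊔ L₁ := by
    intro t ht
    have hpr : (Nat.card (L ⧸ L₁.subgroupOf L)).Prime := by
      rw [← Subgroup.index_eq_card, hi0]; exact hr
    haveI := Fact.mk hpr
    have hne1 : (QuotientGroup.mk ⟨l₀, hl₀⟩ : L ⧸ L₁.subgroupOf L) ≠ 1 := by
      rw [Ne, QuotientGroup.eq_one_iff]; exact hl₀'
    have hmem := mem_zpowers_of_prime_card (G := L ⧸ L₁.subgroupOf L) rfl hne1
      (g' := QuotientGroup.mk ⟨t, ht⟩)
    obtain ⟨k, hk⟩ := hmem
    simp only [← QuotientGroup.mk_zpow, QuotientGroup.eq] at hk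
    rw [show t = l₀ ^ k * ((l₀ ^ k)⁻¹ * t) by group]
    refine mul_mem_sup (zpow_mem (mem_zpowers _) k) ?_
    simpa [Subgroup.mem_subgroupOf] using hk
  have hall : ∀ z, Commute (π z) (π l₀) → ∀ t ∈ L, Commute (π z) (π t) := by
    intro z hz t ht
    have : zpowers l₀ ⊔ L₁ ≤ (centralizer ({π z} : Set (R ⧸ L₂))).comap π := by
      refine sup_le ?_ ?_
      · rw [zpowers_le, mem_comap, mem_centralizer_singleton_iff]
        exact hz.eq.symm
      · intro s hs
        rw [mem_comap, mem_centralizer_singleton_iff]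
        exact (mem_center_iff.1 (hcen s hs) _).symm
    have h := this (hgen ht)
    rw [mem_comap, mem_centralizer_singleton_iff] at h
    exact h.symm
  have hLab : ∀ s ∈ L, ∀ t ∈ L, Commute (π s) (π t) := by
    intro s hs t ht
    refine hall s ?_ t ht
    exact (hall l₀ (Commute.refl _) s hs).symm
  -- the commutator with `l₀`
  have hval : ∀ z, ⁅π z, π l₀⁆ ∈ center (R ⧸ L₂) := by
    intro z
    rw [← map_commutatorElement]
    refine hcen _ ?_
    rw [← inv_inv ⁅z, l₀⁆, commutatorElement_inv]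
    exact inv_mem (Subgroup.commutator_mem_commutator hl₀ (mem_top z))
  let f : R →* L₁.map π :=
    { toFun := fun z => ⟨⁅π z, π l₀⁆, by
        refine ⟨⁅z, l₀⁆, ?_, map_commutatorElement π z l₀⟩
        rw [SetLike.mem_coe, ← inv_inv ⁅z, l₀⁆, commutatorElement_inv]
        exact inv_mem (Subgroup.commutator_mem_commutator hl₀ (mem_top z))⟩
      map_one' := Subtype.ext (by simp [commutatorElement_def])
      map_mul' := fun a b => Subtype.ext (by
        simp only [map_mul, Subgroup.coe_mul]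
        exact CfsgLib.PGroup.comm_mul_left (hval b)) }
  have hmemf : ∀ z, z ∈ f.ker ↔ Commute (π z) (π l₀) := by
    intro z
    rw [MonoidHom.mem_ker, Subtype.ext_iff]
    exact commutatorElement_eq_one_iff_commute
  have hLker : L ≤ f.ker := fun s hs => (hmemf s).2 (hLab s hs l₀ hl₀)
  have hcardim : Nat.card (L₁.map π) = r := by
    have h : L₁.map π = (π.comp L₁.subtype).range := by
      rw [MonoidHom.range_comp, Subgroup.range_subtype]
    rw [h, ← Subgroup.index_ker, ← hi1, ← MonoidHom.comap_ker, QuotientGroup.ker_mk']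
    rfl
  have hex : ∃ z, z ∈ f.ker ∧ z ∉ L := by
    by_contra hno
    push Not at hno
    have heq : f.ker = L := le_antisymm hno hLker
    have h : f.ker.index ≤ r := by
      rw [Subgroup.index_ker, ← hcardim]
      exact Subgroup.card_le_card_group _
    rw [heq, hidx] at h
    have := hr.two_le
    nlinarith
  obtain ⟨z, hz, hzL⟩ := hex
  have hzall := hall z ((hmemf z).1 hz)
  have key : ∀ b : R, ∀ t ∈ L, ⁅b, t⁆ ∈ L₂ := by
    intro b t ht
    rw [← QuotientGroup.eq_one_iff, ← QuotientGroup.mk'_apply, map_commutatorElement,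
      commutatorElement_eq_one_iff_commute]
    by_cases hb : b ∈ L
    · exact hLab b hb t ht
    obtain ⟨φ, hφL, hφb⟩ := htrans z b hzL hb
    have hφ1 := map_commutator_top_le φ hφL
    rw [← hL₁] at hφ1
    have hφ2 := map_commutator_top_le φ hφ1
    rw [← hL₂] at hφ2
    have hmapL : L.map φ.toMonoidHom = L :=
      Subgroup.eq_of_le_of_card_ge hφL (le_of_eq (Nat.card_congr (φ.subgroupMap L).toEquiv))
    obtain ⟨s, hs, rfl⟩ : t ∈ L.map φ.toMonoidHom := by rw [hmapL]; exact ht
    have h1 : π ⁅φ z, φ s⁆ = 1 := by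
      refine (QuotientGroup.eq_one_iff _).2 (hφ2 ⟨⁅z, s⁆, ?_, by simp⟩)
      exact (QuotientGroup.eq_one_iff _).1
        ((map_commutatorElement π z s).trans (commutatorElement_eq_one_iff_commute.2 (hzall s hs)))
    rw [map_commutatorElement, commutatorElement_eq_one_iff_commute] at h1
    have h2 : Commute (π ((φ z)⁻¹ * b)) (π (φ s)) := hLab _ hφb _ ht
    have h3 := h1.mul_left h2
    rw [← map_mul, mul_inv_cancel_left] at h3
    exact h3
  refine hn21 ?_
  rw [hL₁, Subgroup.commutator_le]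
  intro t ht b _
  rw [← inv_inv ⁅t, b⁆, commutatorElement_inv]
  exact inv_mem (key b t ht)

theorem exists_pow_eq_one [Finite R] {r m : ℕ} (hr : r.Prime) (hr2 : r ≠ 2) (hm : m ≠ 0)
    (hR : IsPGroup r R) [L.Normal] (hcl : IsCosetClass L) (hidx : L.index = r ^ m)
    (hcomm : ∀ a b : R, ⁅a, b⁆ ∈ L) (hexp : ∀ a : R, a ^ r ∈ L)
    (hcen : 2 ≤ m → L ≤ center R) :
    ∃ x, x ∉ L ∧ x ^ r = 1 := by
  classical
  obtain ⟨x, hx⟩ : ∃ x, x ∉ L := by
    by_contra h
    push Not at h
    rw [(Subgroup.eq_top_iff' L).2 h, Subgroup.index_top] at hidx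
    have := Nat.one_lt_pow hm hr.one_lt
    omega
  by_cases hm1 : m = 1
  · refine ⟨x, hx, ?_⟩
    have h1 := card_centralizer_le hcl hx
    have h2 : orderOf x ≤ r := by
      rw [hidx, hm1, pow_one] at h1
      refine le_trans ?_ h1
      rw [← Nat.card_zpowers]
      exact Subgroup.card_le_of_le (by rw [zpowers_le, mem_centralizer_singleton_iff])
    haveI := Fact.mk hr
    obtain ⟨k, hk⟩ := IsPGroup.iff_orderOf.1 hR x
    rw [hk] at h2
    refine orderOf_dvd_iff_pow_eq_one.1 (hk ▸ ?_)
    nth_rewrite 2 [← pow_one r]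
    exact pow_dvd_pow r ((Nat.pow_le_pow_iff_right hr.one_lt).1 (by simpa using h2))
  have hLc := hcen (by omega)
  have hodd : r ∣ r.choose 2 := hr.dvd_choose_self (by norm_num) (lt_of_le_of_ne hr.two_le (Ne.symm hr2))
  let P : R →* L :=
    { toFun := fun a => ⟨a ^ r, hexp a⟩
      map_one' := by simp
      map_mul' := fun a b => Subtype.ext (by
        have hc : ⁅b, a⁆ ∈ center R := hLc (hcomm b a)
        show (a * b) ^ r = a ^ r * b ^ r
        rw [CfsgLib.PGroup.mul_pow_of_comm_mem_center hc r]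
        obtain ⟨k, hk⟩ := hodd
        rw [hk, pow_mul, ← CfsgLib.PGroup.comm_pow_left hc r]
        rw [show ⁅b ^ r, a⁆ = 1 from commutatorElement_eq_one_iff_mul_comm.2
          ((mem_center_iff.1 (hLc (hexp b)) a).symm)]
        simp) }
  by_contra hno
  push Not at hno
  have hk : P.ker ≤ L := by
    intro a ha
    by_contra haL
    exact hno a haL (congrArg Subtype.val (MonoidHom.mem_ker.1 ha))
  have h1 : L.index ≤ P.ker.index :=
    Nat.le_of_dvd (Nat.pos_of_ne_zero P.ker.index_ne_zero_of_finite) (Subgroup.index_dvd_of_le hk)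
  have h2 : P.ker.index ≤ Nat.card L := by
    rw [Subgroup.index_ker]; exact Subgroup.card_le_card_group _
  have h3 := card_lt_mul hcl hx (le_refl L) bot_le (T' := ⊥) (fun t ht => by
    rw [mem_bot, commutatorElement_eq_one_iff_mul_comm]
    exact (mem_center_iff.1 (hLc ht) x).symm)
  rw [Subgroup.card_bot, mul_one] at h3
  omega

end CfsgLib.Camina
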