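import Mathlib
import Cfsg.Agent.S0081
import Cfsg.Agent.S0205
import Cfsg.Agent.Lib.Camina.OrderPrime
import Cfsg.Agent.Lib.Recognition.Zsigmondy
import Cfsg.Agent.Lib.FGS.ThompsonKernel
import Cfsg.Agent.Lib.Char.ClassAlgebra
import Cfsg.Agent.Lib.Char.Linear
import Cfsg.Agent.Lib.CharNormal.Kernel
import Cfsg.Agent.Lib.Blocks.Functional

/-!
# A noncentral element seen by one nonlinear character

The group-theoretic consequences of a noncentral element at which exactly one irreducible
character of degree greater than one is nonzero.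
-/

set_option autoImplicit false

namespace CfsgLib.Camina

open Subgroup CfsgLib.Char CfsgLib.CharNormal
open scoped commutatorElement ComplexConjugate

attribute [local instance] Classical.propDecidable

universe u

/-! ### Group-theoretic lemmas -/

theorem eq_bot_of_perfect_solvable {G : Type*} [Group G] {V : Subgroup G} (hV : V ≤ ⁅V, V⁆)
    (hs : Group.IsSolvable V) : V = ⊥ := by
  have h : ∀ k, V ≤ (derivedSeries V k).map V.subtype := by
    intro k
    induction k with
    | zero => rw [derivedSeries_zero, ← MonoidHom.range_eq_map, range_subtype]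
    | succ k ih =>
      rw [derivedSeries_succ, Subgroup.map_commutator]
      exact hV.trans (Subgroup.commutator_mono ih ih)
  obtain ⟨k, hk⟩ := hs.solvable
  have := h k
  rwa [hk, Subgroup.map_bot, le_bot_iff] at this

theorem map_eq_bot_of_perfect_solvable {G Q : Type*} [Group G] [Group Q] {V : Subgroup G}
    (hV : V ≤ ⁅V, V⁆) (f : G →* Q) (hs : Group.IsSolvable Q) : V.map f = ⊥ := by
  have h : ∀ k, V.map f ≤ derivedSeries Q k := by
    intro k
    induction k with
    | zero => simp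
    | succ k ih =>
      refine (Subgroup.map_mono hV).trans ?_
      rw [derivedSeries_succ, Subgroup.map_commutator]
      exact Subgroup.commutator_mono ih ih
  obtain ⟨k, hk⟩ := hs.solvable
  exact le_bot_iff.1 (hk ▸ h k)

theorem exists_primitive_prime {r m : ℕ} (hr : r.Prime) (hr2 : r ≠ 2) (hm : 3 ≤ m) :
    ∃ l : ℕ, l.Prime ∧ l ∣ r ^ m - 1 ∧ ∀ i, 1 ≤ i → i < m → ¬ l ∣ r ^ i - 1 := by
  by_cases hexc : (m, r) ∈ CfsgLib.Recognition.Zsigmondy.exceptions
  · simp only [CfsgLib.Recognition.Zsigmondy.exceptions, List.mem_cons, Prod.mk.injEq,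
      List.not_mem_nil, or_false] at hexc
    rcases hexc with ⟨rfl, rfl⟩ | ⟨rfl, rfl⟩ | ⟨rfl, rfl⟩ | ⟨rfl, rfl⟩ | ⟨rfl, rfl⟩ | ⟨rfl, rfl⟩ |
      ⟨rfl, rfl⟩ | ⟨rfl, rfl⟩
    · omega
    · refine ⟨5, by norm_num, by norm_num, fun i h1 h2 => ?_⟩
      interval_cases i <;> norm_num
    · omega
    · refine ⟨7, by norm_num, by norm_num, fun i h1 h2 => ?_⟩
      interval_cases i <;> norm_num
    · refine ⟨7, by norm_num, by norm_num, fun i h1 h2 => ?_⟩
      interval_cases i <;> norm_num
    all_goals omega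
  · obtain ⟨p, hp, h1, h2, -⟩ :=
      CfsgLib.Recognition.Zsigmondy.exists_large_primitive hm hr.two_le hexc
    exact ⟨p, hp, h1, h2⟩

/-- An abelian normal subgroup containing the derived subgroup and the centre, whose nontrivial
elements are conjugate. -/
theorem centralizer_eq_of_transitive {Q : Type*} [Group Q] [Finite Q] (A : Subgroup Q) [A.Normal]
    (hcomm : commutator Q ≤ A) (hab : ∀ a ∈ A, ∀ b ∈ A, a * b = b * a)
    (htrans : ∀ a ∈ A, ∀ b ∈ A, a ≠ 1 → b ≠ 1 → IsConj a b) (hA : 2 < Nat.card A)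
    (hz : center Q ≤ A) :
    (∀ a ∈ A, a ≠ 1 → centralizer ({a} : Set Q) = A) ∧ A.index = Nat.card A - 1 := by
  have key : ∀ a ∈ A, a ≠ 1 → centralizer ({a} : Set Q) = A := by
    intro a ha ha1
    set C := centralizer ({a} : Set Q) with hC
    have hAC : A ≤ C := fun b hb => mem_centralizer_singleton_iff.2 (hab b hb a ha)
    have hCn : C.Normal := Subgroup.Normal.of_commutator_le (G := Q) (hcomm.trans hAC)
    have hCall : ∀ b ∈ A, ∀ c ∈ C, c * b = b * c := by
      intro b hb c hc
      by_cases hb1 : b = 1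
      · simp [hb1]
      obtain ⟨w, hw⟩ := isConj_iff.1 (htrans a ha b hb ha1 hb1)
      have h1 : (w⁻¹ * c * w) * a = a * (w⁻¹ * c * w) :=
        mem_centralizer_singleton_iff.1 (hCn.conj_mem' c hc w)
      rw [← hw]
      calc c * (w * a * w⁻¹) = w * ((w⁻¹ * c * w) * a) * w⁻¹ := by group
        _ = w * (a * (w⁻¹ * c * w)) * w⁻¹ := by rw [h1]
        _ = _ := by group
    obtain ⟨u, hu⟩ : ∃ u, u ∉ C := by
      by_contra h
      push Not at h
      have hcenA : a ∈ center Q := mem_center_iff.2 fun z => mem_centralizer_singleton_iff.1 (h z)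
      have hsub : ∀ b : A, (b : Q) = 1 ∨ (b : Q) = a := by
        intro b
        by_cases hb1 : (b : Q) = 1
        · exact Or.inl hb1
        obtain ⟨w, hw⟩ := isConj_iff.1 (htrans a ha b b.2 ha1 hb1)
        right
        rw [← hw, mem_center_iff.1 hcenA w, mul_inv_cancel_right]
      have hle : Nat.card A ≤ 2 := by
        refine (Nat.card_le_card_of_injective (fun b : A => decide ((b : Q) = 1)) ?_).trans ?_
        · intro b c hbc
          apply Subtype.ext
          rcases hsub b with h1 | h1 <;> rcases hsub c with h2 | h2 <;> simp_all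
        · simp
      omega
    have hfree : ∀ b ∈ A, u * b = b * u → b = 1 := by
      intro b hb hub
      by_contra hb1
      obtain ⟨w, hw⟩ := isConj_iff.1 (htrans a ha b hb ha1 hb1)
      refine hu ?_
      have h1 : w⁻¹ * u * w ∈ C := by
        rw [hC, mem_centralizer_singleton_iff]
        calc w⁻¹ * u * w * a = w⁻¹ * (u * (w * a * w⁻¹)) * w := by group
          _ = w⁻¹ * ((w * a * w⁻¹) * u) * w := by rw [hw, hub]
          _ = _ := by group
      have := hCn.conj_mem _ h1 w
      simpa [mul_assoc] using this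
    have hmemc : ∀ y z : Q, y * z * y⁻¹ * z⁻¹ ∈ A := fun y z =>
      hcomm (Subgroup.commutator_mem_commutator (mem_top y) (mem_top z))
    let φ : A → A := fun b => ⟨u * b * u⁻¹ * (b : Q)⁻¹, hmemc u b⟩
    have hφ : Function.Surjective φ := by
      refine Finite.surjective_of_injective fun b c hbc => ?_
      have h : u * b * u⁻¹ * (b : Q)⁻¹ = u * c * u⁻¹ * (c : Q)⁻¹ := congrArg Subtype.val hbc
      apply Subtype.ext
      rw [← inv_mul_eq_one]
      refine hfree _ (mul_mem (inv_mem b.2) c.2) ?_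
      have h2 : u * c * u⁻¹ = u * b * u⁻¹ * ((b : Q)⁻¹ * c) := by
        rw [← mul_assoc, h]; group
      calc u * ((b : Q)⁻¹ * c) = (u * b * u⁻¹)⁻¹ * (u * c * u⁻¹) * u := by group
        _ = _ := by rw [h2]; group
    refine le_antisymm (fun c hc => ?_) hAC
    obtain ⟨b, hb⟩ := hφ ⟨u * c * u⁻¹ * c⁻¹, hmemc u c⟩
    have hb' : u * b * u⁻¹ * (b : Q)⁻¹ = u * c * u⁻¹ * c⁻¹ := congrArg Subtype.val hb
    have hcC : (b : Q)⁻¹ * c ∈ C := mul_mem (inv_mem (hAC b.2)) hc
    have hcu : u * ((b : Q)⁻¹ * c) = ((b : Q)⁻¹ * c) * u := by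
      have h2 : u * c * u⁻¹ = u * b * u⁻¹ * (b : Q)⁻¹ * c := by rw [hb']; group
      calc u * ((b : Q)⁻¹ * c) = (u * b * u⁻¹)⁻¹ * (u * c * u⁻¹) * u := by group
        _ = _ := by rw [h2]; group
    suffices hgen : ∀ c', c' ∈ C → u * c' = c' * u → c' ∈ center Q by
      have h3 : (b : Q) * ((b : Q)⁻¹ * c) ∈ A := mul_mem b.2 (hz (hgen _ hcC hcu))
      simpa using h3
    intro c' hcC hcu
    rw [mem_center_iff]
    intro w
    set z := c' * w * c'⁻¹ * w⁻¹ with hzdef
    have hzA : z ∈ A := hmemc c' w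
    set d := u * w * u⁻¹ * w⁻¹ with hd
    have hdA : d ∈ A := hmemc u w
    have hz1 : z = 1 := by
      refine hfree z hzA ?_
      have hcd : c' * d = d * c' := hCall d hdA c' hcC
      have hdz : d * z = z * d := hab d hdA z hzA
      have e1 : u * z * u⁻¹ = c' * (d * w) * c'⁻¹ * (d * w)⁻¹ := by
        calc u * z * u⁻¹ = (u * c') * w * (u * c')⁻¹ * (u * w * u⁻¹)⁻¹ := by rw [hzdef]; group
          _ = (c' * u) * w * (c' * u)⁻¹ * (u * w * u⁻¹)⁻¹ := by rw [hcu]
          _ = c' * (d * w) * c'⁻¹ * (d * w)⁻¹ := by rw [hd]; group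
      have e2 : c' * (d * w) * c'⁻¹ * (d * w)⁻¹ = z := by
        calc c' * (d * w) * c'⁻¹ * (d * w)⁻¹ = (c' * d) * w * c'⁻¹ * w⁻¹ * d⁻¹ := by group
          _ = d * c' * w * c'⁻¹ * w⁻¹ * d⁻¹ := by rw [hcd]
          _ = (d * z) * d⁻¹ := by rw [hzdef]; group
          _ = z := by rw [hdz, mul_inv_cancel_right]
      have e := e1.trans e2
      exact mul_inv_eq_iff_eq_mul.1 e
    have := hz1
    rw [hzdef] at this
    calc w * c' = w * c' := rfl
      _ = c' * w := by
        have h4 : c' * w = w * c' := by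
          rw [mul_inv_eq_one] at this
          rw [← mul_inv_eq_iff_eq_mul]; exact this
        exact h4.symm
  refine ⟨key, ?_⟩
  haveI : Nontrivial A := Finite.one_lt_card_iff_nontrivial.1 (by omega)
  obtain ⟨⟨a, ha⟩, hane⟩ := exists_ne (1 : A)
  have ha1 : a ≠ 1 := fun h => hane (Subtype.ext h)
  have h1 := card_isConj_mul_card_centralizer a
  rw [key a ha ha1] at h1
  have h2 : Nat.card {x : Q // IsConj a x} = Nat.card A - 1 := by
    have : Nat.card {x : Q // IsConj a x} = Nat.card {b : A // b ≠ 1} := by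
      refine Nat.card_congr
        { toFun := fun x => ⟨⟨x.1, ?_⟩, ?_⟩
          invFun := fun b => ⟨(b.1 : Q), htrans a ha _ b.1.2 ha1 (fun h => b.2 (Subtype.ext h))⟩
          left_inv := fun x => rfl
          right_inv := fun b => rfl }
      · obtain ⟨w, hw⟩ := isConj_iff.1 x.2
        rw [← hw]; exact Subgroup.Normal.conj_mem ‹_› a ha w
      · intro h
        obtain ⟨w, hw⟩ := isConj_iff.1 x.2
        have h' : (x.1 : Q) = 1 := congrArg Subtype.val h
        rw [h', conj_eq_one_iff] at hw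
        exact ha1 hw
    rw [this]
    have := Fintype.ofFinite A
    rw [Nat.card_eq_fintype_card, Fintype.card_subtype_compl, Fintype.card_subtype_eq,
      Nat.card_eq_fintype_card]
  rw [← A.index_mul_card, h2] at h1
  exact (Nat.eq_of_mul_eq_mul_right Nat.card_pos h1).symm

/-- `N \ K` is one class and `[G : N] ...`: the cosets of `R ∩ K` in a Sylow subgroup. -/
theorem exists_conj_eq_mul {G : Type*} [Group G] [Finite G] {r : ℕ} [hr : Fact r.Prime]
    (K : Subgroup G) [K.Normal] (R : Sylow r G) (x : (R : Subgroup G))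
    (hclass : Nat.card (centralizer ({(x : G)} : Set G)) * Nat.card K ∣ Nat.card G)
    (hcen : ∀ y : (R : Subgroup G), (x : G)⁻¹ * (y * x * (y : G)⁻¹) ∈ K) :
    ∀ l ∈ K.subgroupOf (R : Subgroup G), ∃ y, y * x * y⁻¹ = x * l := by
  set L := K.subgroupOf (R : Subgroup G) with hL
  set C := centralizer ({x} : Set (R : Subgroup G)) with hC
  have hmemC : ∀ y, y ∈ C ↔ y * x = x * y := fun y => mem_centralizer_singleton_iff
  let f : (R : Subgroup G) ⧸ C → L := fun q =>
    ⟨x⁻¹ * (q.out * x * q.out⁻¹), by simpa [hL, mem_subgroupOf] using hcen q.out⟩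
  have hf : Function.Injective f := by
    intro p q hpq
    have h : p.out * x * p.out⁻¹ = q.out * x * q.out⁻¹ := mul_left_cancel (congrArg Subtype.val hpq)
    rw [← QuotientGroup.out_eq' p, ← QuotientGroup.out_eq' q, QuotientGroup.eq, hmemC]
    calc p.out⁻¹ * q.out * x = p.out⁻¹ * (q.out * x * q.out⁻¹) * q.out := by group
      _ = p.out⁻¹ * (p.out * x * p.out⁻¹) * q.out := by rw [h]
      _ = _ := by group
  have hCc : Nat.card C ∣ Nat.card (centralizer ({(x : G)} : Set G)) := by
    have hle : C.map (R : Subgroup G).subtype ≤ centralizer ({(x : G)} : Set G) := by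
      rintro _ ⟨y, hy, rfl⟩
      rw [mem_centralizer_singleton_iff]
      exact congrArg Subtype.val ((hmemC y).1 hy)
    rw [← Subgroup.card_map_of_injective (R : Subgroup G).subtype_injective]
    exact Subgroup.card_dvd_of_le hle
  have hLK : Nat.card L ∣ Nat.card K := by
    have hle : L.map (R : Subgroup G).subtype ≤ K := by
      rintro _ ⟨y, hy, rfl⟩; exact hy
    rw [← Subgroup.card_map_of_injective (R : Subgroup G).subtype_injective]
    exact Subgroup.card_dvd_of_le hle
  have hdvd : Nat.card C * Nat.card L ∣ Nat.card (R : Subgroup G) := by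
    obtain ⟨i, hi⟩ := IsPGroup.iff_card.1 (R.2.to_subgroup C)
    obtain ⟨j, hj⟩ := IsPGroup.iff_card.1 (R.2.to_subgroup L)
    have h1 : r ^ (i + j) ∣ Nat.card G := by
      rw [pow_add, ← hi, ← hj]; exact (mul_dvd_mul hCc hLK).trans hclass
    rw [hi, hj, ← pow_add, Sylow.card_eq_multiplicity]
    exact pow_dvd_pow r ((hr.out.pow_dvd_iff_le_factorization Nat.card_pos.ne').1 h1)
  have hcard : Nat.card L ≤ Nat.card ((R : Subgroup G) ⧸ C) := by
    rw [← Subgroup.index_eq_card]
    have h1 := Nat.le_of_dvd Nat.card_pos hdvd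
    rw [← C.index_mul_card, mul_comm] at h1
    exact Nat.le_of_mul_le_mul_right h1 Nat.card_pos
  have hsurj := (hf.bijective_of_nat_card_le hcard).2
  intro l hl
  obtain ⟨q, hq⟩ := hsurj ⟨l, hl⟩
  refine ⟨q.out, ?_⟩
  rw [← show x⁻¹ * (q.out * x * q.out⁻¹) = l from congrArg Subtype.val hq, mul_inv_cancel_left]

/-! ### Characters -/

variable {G : Type u} [Group G] [Finite G]

theorem abelian_quotient (a b : G ⧸ commutator G) : a * b = b * a := by
  induction a using QuotientGroup.induction_on with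
  | _ a =>
    induction b using QuotientGroup.induction_on with
    | _ b =>
      rw [← QuotientGroup.mk_mul, ← QuotientGroup.mk_mul, QuotientGroup.eq]
      have h := Subgroup.commutator_mem_commutator (mem_top b⁻¹) (mem_top a⁻¹)
      rw [commutatorElement_def, inv_inv, inv_inv,
        show b⁻¹ * a⁻¹ * b * a = (a * b)⁻¹ * (b * a) by group] at h
      exact h

theorem linear_iff_commutator (ψ : Cfsg.IrrCharacter G) :
    (ψ : G → ℂ) 1 = 1 ↔ ∀ c ∈ commutator G, (ψ : G → ℂ) c = (ψ : G → ℂ) 1 := by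
  constructor
  · intro h c hc
    have hh := Abelianization.commutator_subset_ker (linearHom (isCharacter_of_isIrr ψ.2) h) hc
    rw [MonoidHom.mem_ker] at hh
    rw [h, ← linearHom_apply (isCharacter_of_isIrr ψ.2) h, hh, Units.val_one]
  · intro h
    obtain ⟨φ, hφ, he⟩ := exists_irr_eq_comp_mk' (commutator G) ψ.2 h
    rw [← he]
    have := Fintype.ofFinite (G ⧸ commutator G)
    refine irr_one_eq_one_of_comm (G := G ⧸ commutator G) (χ := φ) (fun a b => ?_) hφ
    exact abelian_quotient a b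

theorem sum_linear (h : G) :
    ∑ ψ ∈ Finset.univ.filter (fun ψ : Cfsg.IrrCharacter G => (ψ : G → ℂ) 1 = 1), (ψ : G → ℂ) h =
      if h ∈ commutator G then ((commutator G).index : ℂ) else 0 := by
  have := Fintype.ofFinite G
  have := Fintype.ofFinite (G ⧸ commutator G)
  rw [Finset.filter_congr (fun ψ _ => linear_iff_commutator ψ),
    ← Finset.sum_subtype_eq_sum_filter, Finset.subtype_univ,
    ← Equiv.sum_comp (inflEquiv (commutator G))]
  simp only [inflEquiv_apply]
  have h1 := sum_degree_mul_apply (G := G ⧸ commutator G) (h : G ⧸ commutator G)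
  simp only [QuotientGroup.eq_one_iff, ← Subgroup.index_eq_card] at h1
  convert h1 using 1
  refine Finset.sum_congr (by convert rfl) fun φ _ => ?_
  rw [irr_one_eq_one_of_comm abelian_quotient φ.2, one_mul]

variable {g : G} {χ : Cfsg.IrrCharacter G}

/-- The hypotheses: `χ` is the only nonlinear irreducible character not vanishing at `g`. -/
structure OneChar (g : G) (χ : Cfsg.IrrCharacter G) : Prop where
  notCentral : g ∉ center G
  nonlinear : (χ : G → ℂ) 1 ≠ 1
  ne_zero : (χ : G → ℂ) g ≠ 0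
  others : ∀ ψ : Cfsg.IrrCharacter G, (ψ : G → ℂ) 1 ≠ 1 → ψ ≠ χ → (ψ : G → ℂ) g = 0

namespace OneChar

variable (H : OneChar g χ)
include H

theorem sum_eq (f : Cfsg.IrrCharacter G → ℂ)
    (hf : ∀ ψ : Cfsg.IrrCharacter G, (ψ : G → ℂ) g = 0 → f ψ = 0) :
    ∑ ψ, f ψ = (∑ ψ ∈ Finset.univ.filter (fun ψ : Cfsg.IrrCharacter G => (ψ : G → ℂ) 1 = 1), f ψ)
      + f χ := by
  rw [← Finset.sum_filter_add_sum_filter_not Finset.univ
    (fun ψ : Cfsg.IrrCharacter G => (ψ : G → ℂ) 1 = 1) f]
  congr 1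
  refine Finset.sum_eq_single_of_mem χ (by simp [H.nonlinear]) fun ψ hψ hne => ?_
  simp only [Finset.mem_filter] at hψ
  exact hf ψ (H.others ψ hψ.2 hne)

theorem value : g ∈ commutator G ∧
    (χ : G → ℂ) g = -(((commutator G).index : ℂ) / (χ : G → ℂ) 1) := by
  have := Fintype.ofFinite G
  have hg1 : g ≠ 1 := fun h => H.notCentral (h ▸ one_mem _)
  have h1 := sum_degree_mul_apply (G := G) g
  rw [if_neg hg1] at h1
  rw [H.sum_eq (fun ψ => (ψ : G → ℂ) 1 * (ψ : G → ℂ) g) (fun ψ h => by simp only [h, mul_zero]),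
    Finset.sum_congr rfl (fun ψ hψ => by rw [(Finset.mem_filter.1 hψ).2, one_mul]), sum_linear] at h1
  have hd : (χ : G → ℂ) 1 ≠ 0 := irr_one_ne_zero χ.2
  by_cases hgc : g ∈ commutator G
  · refine ⟨hgc, ?_⟩
    rw [if_pos hgc] at h1
    field_simp
    linear_combination h1
  · rw [if_neg hgc, zero_add] at h1
    exact absurd h1 (mul_ne_zero hd H.ne_zero)

theorem column (h : G) (hh : ¬ IsConj g h) :
    (χ : G → ℂ) h = if h ∈ commutator G then (χ : G → ℂ) 1 else 0 := by
  have := Fintype.ofFinite G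
  obtain ⟨hgc, hval⟩ := H.value
  have h1 := second_orthogonality (G := G) h g
  rw [if_neg (fun hc => hh hc.symm), H.sum_eq (fun ψ => (ψ : G → ℂ) h * conj ((ψ : G → ℂ) g)) (fun ψ h0 => by simp only [h0, map_zero, mul_zero])] at h1
  rw [Finset.sum_congr rfl (fun ψ hψ => by
    rw [(linear_iff_commutator ψ).1 (Finset.mem_filter.1 hψ).2 g hgc,
      (Finset.mem_filter.1 hψ).2, map_one, mul_one]), sum_linear, hval, map_neg, map_div₀,
    map_natCast, char_conj_one (isCharacter_of_isIrr χ.2)] at h1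
  have hd : (χ : G → ℂ) 1 ≠ 0 := irr_one_ne_zero χ.2
  have hn : ((commutator G).index : ℂ) ≠ 0 := by
    exact_mod_cast (commutator G).index_ne_zero_of_finite
  split_ifs with hc
  · rw [if_pos hc] at h1
    field_simp at h1
    refine mul_left_cancel₀ hn ?_
    linear_combination -h1
  · rw [if_neg hc, zero_add] at h1
    simpa [hn, hd] using h1

theorem vanish (x : G) (hx : x ∉ commutator G) : (χ : G → ℂ) x = 0 := by
  have := H.column x fun hc => hx (by
    obtain ⟨w, rfl⟩ := isConj_iff.1 hc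
    exact (inferInstance : (commutator G).Normal).conj_mem g H.value.1 w)
  rwa [if_neg hx] at this

theorem value_ne : (χ : G → ℂ) g ≠ (χ : G → ℂ) 1 := by
  intro h
  obtain ⟨d, hd0, hd⟩ := exists_degree_pos χ.2
  obtain ⟨-, hval⟩ := H.value
  rw [h, hd, eq_neg_iff_add_eq_zero] at hval
  have hd' : (d : ℂ) ≠ 0 := by exact_mod_cast hd0.ne'
  field_simp at hval
  norm_cast at hval
  have := Nat.pos_of_ne_zero (commutator G).index_ne_zero_of_finite
  nlinarith

theorem class_value {x : G} (hx : IsConj g x) : (χ : G → ℂ) x = (χ : G → ℂ) g :=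
  haveI := Fintype.ofFinite G; ((isConj_iff_forall_irr g x).1 hx χ).symm

theorem mem_commutator_iff (x : G) :
    x ∈ commutator G ↔ (χ : G → ℂ) x = (χ : G → ℂ) 1 ∨ IsConj g x := by
  constructor
  · intro hx
    by_cases hc : IsConj g x
    · exact Or.inr hc
    · left; rw [H.column x hc, if_pos hx]
  · rintro (hx | hc)
    · by_contra h
      rw [H.vanish x h] at hx
      exact irr_one_ne_zero χ.2 hx.symm
    · obtain ⟨w, rfl⟩ := isConj_iff.1 hc
      exact (inferInstance : (commutator G).Normal).conj_mem g H.value.1 w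

theorem unique (ψ : Cfsg.IrrCharacter G) (hψ : (ψ : G → ℂ) 1 ≠ 1)
    (hker : ∀ x : G, (χ : G → ℂ) x = (χ : G → ℂ) 1 → (ψ : G → ℂ) x = (ψ : G → ℂ) 1) : ψ = χ := by
  by_contra hne
  have := Fintype.ofFinite G
  have := Fintype.ofFinite (commutator G)
  refine hψ ((linear_iff_commutator ψ).2
    (res_eq_degree_of_constituent_one (N := commutator G) ψ.2 ?_))
  rw [classInner_one_right]
  refine mul_ne_zero (inv_ne_zero (by exact_mod_cast Nat.card_pos.ne')) ?_
  have hterm : ∀ c : commutator G, (ψ : G → ℂ) c =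
      if (χ : G → ℂ) c = (χ : G → ℂ) 1 then (ψ : G → ℂ) 1 else 0 := by
    intro c
    split_ifs with h
    · exact hker c h
    · have hc := ((H.mem_commutator_iff c).1 c.2).resolve_left h
      rw [← (isConj_iff_forall_irr g (c : G)).1 hc ψ]
      exact H.others ψ hψ hne
  rw [Finset.sum_congr rfl (fun c _ => hterm c), Finset.sum_ite, Finset.sum_const_zero, add_zero,
    Finset.sum_const, nsmul_eq_mul]
  refine mul_ne_zero (Nat.cast_ne_zero.2 (Finset.card_ne_zero.2 ⟨1, by simp⟩)) (irr_one_ne_zero ψ.2)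

omit H in
/-- The kernel of a character. -/
abbrev kerOf (χ : Cfsg.IrrCharacter G) : Subgroup G := charKer (isCharacter_of_isIrr χ.2)

theorem mem_class_iff (x : G) : IsConj g x ↔ x ∈ commutator G ∧ x ∉ kerOf χ := by
  constructor
  · intro hx
    refine ⟨(H.mem_commutator_iff x).2 (Or.inr hx), fun hk => H.value_ne ?_⟩
    rw [← H.class_value hx]; exact hk
  · rintro ⟨h1, h2⟩
    exact ((H.mem_commutator_iff x).1 h1).resolve_left h2

theorem kerOf_le : kerOf χ ≤ commutator G := fun x hx => (H.mem_commutator_iff x).2 (Or.inl hx)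

theorem card_centralizer_dvd {x : G} (hx : IsConj g x) :
    Nat.card (centralizer ({x} : Set G)) * Nat.card (kerOf χ) ∣ Nat.card G := by
  have h1 := card_isConj_mul_card_centralizer x
  have hdvd : Nat.card (kerOf χ) ∣ Nat.card {y : G // IsConj x y} := by
    have hset : Nat.card {y : G // IsConj x y} + Nat.card (kerOf χ) = Nat.card (commutator G) := by
      rw [← Nat.card_sum]
      refine Nat.card_congr
        (((Equiv.subtypeEquivRight (q := fun y => y ∈ commutator G ∧ y ∉ kerOf χ) fun y => ?_).sumCongr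
          (Equiv.subtypeEquivRight (q := fun y => y ∈ commutator G ∧ y ∈ kerOf χ) fun y => ?_)).trans
          (((Equiv.subtypeSubtypeEquivSubtypeInter _ _).symm.sumCongr
            (Equiv.subtypeSubtypeEquivSubtypeInter _ _).symm).trans
            ((Equiv.sumComm _ _).trans (Equiv.sumCompl _))))
      · rw [← H.mem_class_iff]
        exact ⟨fun h => hx.trans h, fun h => hx.symm.trans h⟩
      · exact ⟨fun h => ⟨H.kerOf_le h, h⟩, fun h => h.2⟩
    have h2 := Subgroup.card_dvd_of_le H.kerOf_le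
    rw [← hset] at h2
    exact (Nat.dvd_add_left dvd_rfl).1 h2
  rw [← h1, mul_comm]
  exact mul_dvd_mul_right hdvd _

theorem exists_prime_structure :
    ∃ r : ℕ, r.Prime ∧ (∀ x ∈ commutator G, x ∉ kerOf χ → ∃ k, orderOf x = r ^ k) ∧
      (∀ x ∈ commutator G, x ^ r ∈ kerOf χ) := by
  set K := kerOf χ with hK
  haveI : K.Normal := charKer_normal _
  have hgN : g ∈ commutator G := H.value.1
  have hgK : g ∉ K := H.value_ne
  have hord : ∀ x ∈ commutator G, x ∉ K → orderOf x = orderOf g := by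
    intro x h1 h2
    obtain ⟨w, rfl⟩ := isConj_iff.1 ((H.mem_class_iff x).2 ⟨h1, h2⟩)
    exact (MulAut.conj w).orderOf_eq g
  set e := orderOf (QuotientGroup.mk g : G ⧸ K) with he
  have hek : ∀ k : ℕ, g ^ k ∈ K ↔ e ∣ k := by
    intro k
    rw [he, orderOf_dvd_iff_pow_eq_one, ← QuotientGroup.mk_pow, QuotientGroup.eq_one_iff]
  have he1 : e ≠ 1 := fun h => hgK (by simpa using (hek 1).2 (by rw [h]))
  have ho : 0 < orderOf g := orderOf_pos g
  have hcop : ∀ k : ℕ, ¬ e ∣ k → k ≠ 0 → (orderOf g).Coprime k := by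
    intro k hk hk0
    have h := hord _ (pow_mem hgN k) (fun hm => hk ((hek k).1 hm))
    rw [orderOf_pow' g hk0] at h
    rcases Nat.div_eq_self.1 h with h' | h'
    · omega
    · exact h'
  have hr := Nat.minFac_prime he1
  set r := e.minFac with hrdef
  obtain ⟨t, ht⟩ : r ∣ e := Nat.minFac_dvd e
  have hediv : e ∣ orderOf g := (hek _).1 (by rw [pow_orderOf_eq_one]; exact one_mem _)
  have hepos : 0 < e := orderOf_pos _
  have ht0 : t ≠ 0 := fun h => by rw [h, mul_zero] at ht; omega
  have het : ¬ e ∣ t := fun h => by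
    have := Nat.le_of_dvd (Nat.pos_of_ne_zero ht0) h
    have := hr.two_le
    rw [ht] at *
    nlinarith [Nat.pos_of_ne_zero ht0]
  have ht1 : t = 1 := Nat.eq_one_of_dvd_coprimes (hcop t het ht0)
    ((Dvd.intro_left r ht.symm).trans hediv) dvd_rfl
  have her : e = r := by rw [ht, ht1, mul_one]
  refine ⟨r, hr, fun x h1 h2 => ⟨_, (hord x h1 h2).trans
    (Nat.eq_prime_pow_of_unique_prime_dvd (p := r) ho.ne' fun {d} hd hdo => ?_)⟩, fun x hx => ?_⟩
  · by_contra hdr
    have hnd : ¬ e ∣ d := by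
      rw [her]; exact fun h => hdr ((Nat.prime_dvd_prime_iff_eq hr hd).1 h).symm
    exact hd.ne_one (Nat.eq_one_of_dvd_coprimes (hcop d hnd hd.ne_zero) hdo dvd_rfl)
  · by_cases hxK : x ∈ K
    · exact pow_mem hxK r
    · obtain ⟨w, rfl⟩ := isConj_iff.1 ((H.mem_class_iff x).2 ⟨hx, hxK⟩)
      rw [← MulAut.conj_apply, ← map_pow, MulAut.conj_apply]
      exact (inferInstance : K.Normal).conj_mem _ ((hek r).2 (by rw [her])) w

theorem center_quotient_le (c : G) (hc : ∀ w, w * c * w⁻¹ * c⁻¹ ∈ kerOf χ) :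
    c ∈ commutator G := by
  have := Fintype.ofFinite G
  by_contra hcN
  have h := sum_char_conj_mul χ.2 c c⁻¹
  rw [Finset.sum_congr rfl (fun b _ => show (χ : G → ℂ) (b * c * b⁻¹ * c⁻¹) = (χ : G → ℂ) 1 from hc b),
    H.vanish c hcN, mul_zero, zero_mul, zero_div, Finset.sum_const, nsmul_eq_mul] at h
  rcases mul_eq_zero.1 h with h | h
  · simp at h
  · exact irr_one_ne_zero χ.2 h

theorem isSolvable : Group.IsSolvable G := by
  set N := commutator G with hN
  set K := kerOf χ with hK
  haveI hKn : K.Normal := charKer_normal _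
  obtain ⟨r, hr, hrel, hexp⟩ := H.exists_prime_structure
  haveI := Fact.mk hr
  have hgN : g ∈ N := H.value.1
  have hgK : g ∉ K := H.value_ne
  let π := QuotientGroup.mk' K
  set A := N.map π with hAdef
  have hπ : ∀ x, π x = 1 ↔ x ∈ K := fun x => QuotientGroup.eq_one_iff x
  haveI hAn : A.Normal := Subgroup.Normal.map inferInstance π (QuotientGroup.mk'_surjective K)
  have hAP : IsPGroup r A := by
    intro a
    obtain ⟨x, hx, hxa⟩ := Subgroup.mem_map.1 a.2
    refine ⟨1, Subtype.ext ?_⟩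
    rw [pow_one, Subgroup.coe_pow, ← hxa, ← map_pow, Subgroup.coe_one, hπ]
    exact hexp x hx
  have hAne : Nontrivial A :=
    ⟨⟨⟨π g, mem_map_of_mem π hgN⟩, 1, fun h => hgK ((hπ g).1 (congrArg Subtype.val h))⟩⟩
  have htransA : ∀ a ∈ A, ∀ b ∈ A, a ≠ 1 → b ≠ 1 → IsConj a b := by
    rintro _ ⟨x, hx, rfl⟩ _ ⟨y, hy, rfl⟩ h1 h2
    exact π.map_isConj (((H.mem_class_iff x).2 ⟨hx, fun h => h1 ((hπ x).2 h)⟩).symm.trans
      ((H.mem_class_iff y).2 ⟨hy, fun h => h2 ((hπ y).2 h)⟩))
  have habA : ∀ a ∈ A, ∀ b ∈ A, a * b = b * a := by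
    haveI : Group.IsNilpotent A := hAP.isNilpotent
    intro a ha b hb
    by_contra hne
    have hne1 : ⁅a, b⁆ ≠ 1 := fun h => hne (commutatorElement_eq_one_iff_mul_comm.1 h)
    have hall : A ≤ ⁅A, A⁆ := by
      intro c hc
      by_cases hc1 : c = 1
      · rw [hc1]; exact one_mem _
      obtain ⟨w, hw⟩ := isConj_iff.1 (htransA _ (Subgroup.commutator_le_left A A
        (Subgroup.commutator_mem_commutator ha hb)) c hc hne1 hc1)
      rw [← hw]
      exact (inferInstance : (⁅A, A⁆).Normal).conj_mem _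
        (Subgroup.commutator_mem_commutator ha hb) w
    have hb0 := eq_bot_of_perfect_solvable hall inferInstance
    have := hb0 ▸ ha
    rw [mem_bot] at this
    subst this
    simp at hne
  have hNK : ⁅N, N⁆ ≤ K := by
    rw [Subgroup.commutator_le]
    intro x hx y hy
    rw [← hπ, map_commutatorElement, commutatorElement_eq_one_iff_mul_comm]
    exact habA _ (mem_map_of_mem π hx) _ (mem_map_of_mem π hy)
  -- the stable term of the derived series
  have hex : ∃ c, ∃ k, 2 ≤ k ∧ Nat.card (derivedSeries G k) = c := ⟨_, 2, le_rfl, rfl⟩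
  obtain ⟨k, hk2, hk⟩ := Nat.find_spec hex
  set V := derivedSeries G k with hVdef
  have hstep : derivedSeries G (k + 1) ≤ V := derivedSeries_antitone G k.le_succ
  have hperf : V ≤ ⁅V, V⁆ := by
    refine le_of_eq (Subgroup.eq_of_le_of_card_ge hstep ?_).symm
    rw [hk]
    exact Nat.find_min' hex ⟨k + 1, by omega, rfl⟩
  suffices hV : V = ⊥ from ⟨⟨k, hV⟩⟩
  haveI hVn : V.Normal := derivedSeries_normal G k
  have hVK : V ≤ K := by
    refine le_trans (derivedSeries_antitone G hk2) ?_
    rw [show (2 : ℕ) = 1 + 1 from rfl, derivedSeries_succ, derivedSeries_one]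
    exact hNK
  obtain ⟨R, hgR⟩ : ∃ R : Sylow r G, g ∈ (R : Subgroup G) := by
    obtain ⟨k, hk⟩ := hrel g hgN hgK
    obtain ⟨R, hR⟩ := (IsPGroup.of_card (p := r) (G := zpowers g) (n := k)
      (by rw [Nat.card_zpowers, hk])).exists_le_sylow
    exact ⟨R, hR (mem_zpowers g)⟩
  set L := K.subgroupOf (R : Subgroup G) with hLdef
  -- `K` has a normal `r`-complement
  have hfr : K ⊓ (R : Subgroup G) ≤ (frattini R).map (R : Subgroup G).subtype := by
    haveI : Fact r.Prime := ⟨hr⟩
    have hQP : IsPGroup r ((R : Subgroup G) ⧸ L) := R.2.to_quotient L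
    set B := (N.subgroupOf (R : Subgroup G)).map (QuotientGroup.mk' L) with hBdef
    haveI : B.Normal :=
      Subgroup.Normal.map inferInstance _ (QuotientGroup.mk'_surjective L)
    have hB : B ≠ ⊥ := by
      intro h
      have hm : QuotientGroup.mk' L ⟨g, hgR⟩ ∈ B := mem_map_of_mem _ (by simpa [mem_subgroupOf] using hgN)
      rw [h, mem_bot, QuotientGroup.mk'_apply, QuotientGroup.eq_one_iff, hLdef, mem_subgroupOf] at hm
      exact hgK hm
    obtain ⟨z, hz, hz1⟩ := (Subgroup.bot_or_exists_ne_one _).resolve_left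
      (CfsgLib.PGroup.inf_center_ne_bot hQP B hB)
    obtain ⟨⟨x, hxN, rfl⟩, hzc⟩ := Subgroup.mem_inf.1 hz
    have hxK : (x : G) ∉ K := fun h => hz1 ((QuotientGroup.eq_one_iff x).2 h)
    have hxc : ∀ y : (R : Subgroup G), (x : G)⁻¹ * (y * x * (y : G)⁻¹) ∈ K := by
      intro y
      have h := mem_center_iff.1 hzc (QuotientGroup.mk' L y)
      have h2 : QuotientGroup.mk' L (x⁻¹ * (y * x * y⁻¹)) = 1 := by
        simp only [map_mul, map_inv]
        rw [h]; group
      simpa [hLdef, mem_subgroupOf] using (QuotientGroup.eq_one_iff _).1 h2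
    have hcs := exists_conj_eq_mul K R x (H.card_centralizer_dvd
      ((H.mem_class_iff _).2 ⟨hxN, hxK⟩)) hxc
    rintro l ⟨hlK, hlR⟩
    obtain ⟨y, hy⟩ := hcs ⟨l, hlR⟩ hlK
    refine ⟨⟨l, hlR⟩, CfsgLib.PGroup.commutator_le_frattini R.2 ?_, rfl⟩
    have : (⟨l, hlR⟩ : (R : Subgroup G)) = ⁅x⁻¹, y⁆ := by
      rw [commutatorElement_def, inv_inv, ← mul_right_inj x, ← hy]; group
    rw [this]
    exact Subgroup.commutator_mem_commutator (mem_top _) (mem_top _)
  obtain ⟨P, M, hMn, hMc⟩ := Cfsg.Agent.S0081.result R K hfr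
  have hVM : V.subgroupOf K ≤ M := by
    haveI := hMn
    have hq : IsPGroup r (K ⧸ M) := by
      obtain ⟨j, hj⟩ := IsPGroup.iff_card.1 P.2
      exact IsPGroup.of_card (n := j) (by rw [← Subgroup.index_eq_card, (Subgroup.IsComplement'.symm hMc).index_eq_card]; exact hj)
    haveI : Group.IsNilpotent (K ⧸ M) := hq.isNilpotent
    have hp : V.subgroupOf K ≤ ⁅V.subgroupOf K, V.subgroupOf K⁆ := by
      rw [← Subgroup.map_le_map_iff_of_injective K.subtype_injective, Subgroup.map_commutator,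
        Subgroup.subgroupOf_map_subtype, inf_eq_left.2 hVK]
      exact hperf
    have := map_eq_bot_of_perfect_solvable hp (QuotientGroup.mk' M) inferInstance
    rwa [Subgroup.map_eq_bot_iff, QuotientGroup.ker_mk'] at this
  have hVr : ¬ r ∣ Nat.card V := by
    intro h
    have hndvd : ¬ r ∣ Nat.card M := by
      rw [← Subgroup.IsComplement'.index_eq_card hMc]; exact P.not_dvd_index
    refine hndvd (h.trans ?_)
    rw [← Nat.card_congr (Subgroup.subgroupOfEquivOfLe hVK).toEquiv]
    exact Subgroup.card_dvd_of_le hVM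
  have hfix : ∀ v ∈ V, v * g = g * v → v = 1 := by
    intro v hv hvg
    have hvN : v ∈ N := H.kerOf_le (hVK hv)
    obtain ⟨a, ha⟩ := hrel g hgN hgK
    obtain ⟨b, hb⟩ := hrel (g * v) (mul_mem hgN hvN) (fun h => hgK (by
      simpa using mul_mem h (inv_mem (hVK hv))))
    have hvo : orderOf v ∣ Nat.card V := by
      have := orderOf_dvd_natCard (⟨v, hv⟩ : V)
      rwa [Subgroup.orderOf_mk] at this
    have hcop : (orderOf g).Coprime (orderOf v) := by
      rw [ha]
      exact Nat.Coprime.pow_left _ ((hr.coprime_iff_not_dvd).2 fun h => hVr (h.trans hvo))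
    rw [(show Commute g v from hvg.symm).orderOf_mul_eq_mul_orderOf_of_coprime hcop] at hb
    have h1 : orderOf v ∣ r ^ b := hb ▸ dvd_mul_left _ _
    obtain ⟨c, -, hc⟩ := (Nat.dvd_prime_pow hr).1 h1
    rw [← orderOf_eq_one_iff, hc]
    rcases c with _ | c
    · simp
    · exact absurd ((hc ▸ dvd_pow_self r c.succ_ne_zero).trans hvo) hVr
  refine eq_bot_of_perfect_solvable hperf ?_
  by_cases hr2 : r = 2
  · subst hr2
    exact Cfsg.Agent.S0205.result (Nat.odd_iff.2 (by omega))
  -- odd `r`: the class of `g` consists of elements of order `r`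
  suffices hord : orderOf g = r by
    haveI := CfsgLib.FGS.isNilpotent_of_fpf_element V hr hord hfix
    infer_instance
  obtain ⟨m, hm⟩ := IsPGroup.iff_card.1 hAP
  have hA3 : 2 < Nat.card A := by
    have h1 : 1 < Nat.card A := Finite.one_lt_card_iff_nontrivial.2 hAne
    have h2 : Nat.card A ≠ 2 := fun h => hr2 (by
      rw [hm] at h
      exact ((Nat.prime_dvd_prime_iff_eq Nat.prime_two hr).1
        (Nat.prime_two.dvd_of_dvd_pow (h ▸ dvd_rfl : 2 ∣ r ^ m))).symm)
    omega
  have hm0 : m ≠ 0 := fun h => by rw [h, pow_zero] at hm; omega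
  have hcommA : commutator (G ⧸ K) ≤ A := by
    rw [_root_.commutator_def, ← (MonoidHom.range_eq_top.2 (QuotientGroup.mk'_surjective K)),
      MonoidHom.range_eq_map, ← Subgroup.map_commutator, ← _root_.commutator_def]
  have hzA : center (G ⧸ K) ≤ A := by
    intro z hz
    obtain ⟨c, rfl⟩ := QuotientGroup.mk'_surjective K z
    refine mem_map_of_mem π (H.center_quotient_le c fun w => ?_)
    rw [← hπ]
    simp only [map_mul, map_inv]
    rw [mem_center_iff.1 hz (π w), mul_inv_cancel_right]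
    exact mul_inv_cancel _
  obtain ⟨hcA, hidxA⟩ := centralizer_eq_of_transitive A hcommA habA htransA hA3 hzA
  have hNidx : N.index = r ^ m - 1 := by
    rw [← hm, ← hidxA, hAdef, Subgroup.index_map_eq _ (QuotientGroup.mk'_surjective K)
      (by rw [QuotientGroup.ker_mk']; exact H.kerOf_le)]
  have hrn : ¬ r ∣ N.index := by
    rw [hNidx]
    intro h
    have h2 : r ∣ r ^ m := dvd_pow_self r hm0
    have h3 := Nat.dvd_sub h2 h
    rw [Nat.sub_sub_self (Nat.one_le_pow _ _ hr.pos)] at h3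
    exact hr.ne_one (Nat.dvd_one.1 h3)
  have hRN : (R : Subgroup G) ≤ N := by
    have hq : IsPGroup r ((R : Subgroup G).map (QuotientGroup.mk' N)) := R.2.map _
    obtain ⟨j, hj⟩ := IsPGroup.iff_card.1 hq
    have hd := Subgroup.card_subgroup_dvd_card ((R : Subgroup G).map (QuotientGroup.mk' N))
    rw [← Subgroup.index_eq_card, hj] at hd
    have hj0 : j = 0 := by
      by_contra h0; exact hrn ((dvd_pow_self r h0).trans hd)
    rw [hj0, pow_zero, Subgroup.card_eq_one, Subgroup.map_eq_bot_iff, QuotientGroup.ker_mk'] at hj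
    exact hj
  have hidxL : L.index = r ^ m := by
    have hle : (R : Subgroup G).map π ≤ A := Subgroup.map_mono hRN
    have hS := (Sylow.mapSurjective (QuotientGroup.mk'_surjective K) R).card_eq_multiplicity
    rw [Sylow.coe_mapSurjective] at hS
    have hlem : m ≤ (Nat.card (G ⧸ K)).factorization r :=
      (hr.pow_dvd_iff_le_factorization Nat.card_pos.ne').1
        (hm ▸ Subgroup.card_subgroup_dvd_card A)
    have hge : r ^ m ≤ Nat.card ((R : Subgroup G).map π) := by
      rw [hS]; exact Nat.pow_le_pow_right hr.pos hlem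
    have heq : Nat.card ((R : Subgroup G).map π) = r ^ m :=
      le_antisymm (hm ▸ Subgroup.card_le_of_le hle) hge
    rw [← heq, show (R : Subgroup G).map π = (π.comp (R : Subgroup G).subtype).range by
      rw [MonoidHom.range_comp, Subgroup.range_subtype], ← Subgroup.index_ker,
      ← MonoidHom.comap_ker, QuotientGroup.ker_mk']
    rfl
  have hxconj : ∀ x : (R : Subgroup G), x ∉ L → IsConj g (x : G) := fun x hx =>
    (H.mem_class_iff _).2 ⟨hRN x.2, hx⟩
  have hcomm : ∀ a b : (R : Subgroup G), ⁅a, b⁆ ∈ L := fun a b =>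
    hNK (by simpa [commutatorElement_def] using
      Subgroup.commutator_mem_commutator (hRN a.2) (hRN b.2))
  have hcl : IsCosetClass L := by
    intro x hx
    refine exists_conj_eq_mul K R x (H.card_centralizer_dvd (hxconj x hx)) fun y => ?_
    have h : ((⁅x⁻¹, y⁆ : (R : Subgroup G)) : G) ∈ K := hcomm x⁻¹ y
    simpa [commutatorElement_def, mul_assoc] using h
  have hexpL : ∀ a : (R : Subgroup G), a ^ r ∈ L := fun a => by
    simpa [hLdef, mem_subgroupOf] using hexp _ (hRN a.2)
  have hsup : N ⊔ normalizer ((R : Subgroup G) : Set G) = ⊤ := by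
    rw [sup_comm]; exact Sylow.normalizer_sup_eq_top' R hRN
  let ν := (R : Subgroup G).normalizerMonoidHom
  have hνL : ∀ h, L.map (ν h).toMonoidHom ≤ L := by
    rintro h _ ⟨y, hy, rfl⟩
    exact hKn.conj_mem _ hy (h : G)
  obtain ⟨x₀, hx₀⟩ : ∃ x : (R : Subgroup G), x ∉ L := ⟨⟨g, hgR⟩, hgK⟩
  have hcen : 2 ≤ m → L ≤ center (R : Subgroup G) := by
    intro hm2
    by_cases hm3 : m = 2
    · refine le_center_of_sq hr R.2 hcl (hm3 ▸ hidxL) hx₀ fun a b ha hb => ?_
      obtain ⟨w, hw⟩ := isConj_iff.1 ((hxconj a ha).symm.trans (hxconj b hb))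
      obtain ⟨n, hn, h, hh, rfl⟩ := Subgroup.mem_sup_of_normal_left.1
        (hsup ▸ mem_top w : w ∈ N ⊔ normalizer ((R : Subgroup G) : Set G))
      refine ⟨ν ⟨h, hh⟩, hνL _, ?_⟩
      have hha : h * (a : G) * h⁻¹ ∈ N :=
        (inferInstance : N.Normal).conj_mem _ (hRN a.2) h
      show ((ν ⟨h, hh⟩ a : (R : Subgroup G)) : G)⁻¹ * (b : G) ∈ K
      rw [← hw]
      show (h * (a : G) * h⁻¹)⁻¹ * (n * h * (a : G) * (n * h)⁻¹) ∈ K
      rw [show (h * (a : G) * h⁻¹)⁻¹ * (n * h * (a : G) * (n * h)⁻¹) =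
        ⁅(h * (a : G) * h⁻¹)⁻¹, n⁆ by rw [commutatorElement_def]; group]
      exact hNK (Subgroup.commutator_mem_commutator (inv_mem hha) hn)
    obtain ⟨l, hl, hldvd, hprim⟩ := exists_primitive_prime hr hr2 (show 3 ≤ m by omega)
    haveI := Fact.mk hl
    have hlr : l ≠ r := by
      rintro rfl
      exact hrn (hNidx ▸ hldvd)
    let q := (QuotientGroup.mk' N).comp (normalizer ((R : Subgroup G) : Set G)).subtype
    have hq : Function.Surjective q := by
      intro z
      obtain ⟨w, rfl⟩ := QuotientGroup.mk'_surjective N z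
      obtain ⟨n, hn, h, hh, rfl⟩ := Subgroup.mem_sup_of_normal_left.1
        (hsup ▸ mem_top w : w ∈ N ⊔ normalizer ((R : Subgroup G) : Set G))
      refine ⟨⟨h, hh⟩, ?_⟩
      show QuotientGroup.mk' N h = _
      rw [map_mul, (QuotientGroup.eq_one_iff n).2 hn |> (fun e => show QuotientGroup.mk' N n = 1 from e),
        one_mul]
    obtain ⟨z, hz⟩ := exists_prime_orderOf_dvd_card' (G := G ⧸ N) l
      (by rw [← Subgroup.index_eq_card, hNidx]; exact hldvd)
    obtain ⟨w, hw⟩ := hq z
    obtain ⟨a, e, hle, hwe⟩ := Nat.exists_eq_pow_mul_and_not_dvd (orderOf_pos w).ne' l hl.ne_one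
    have hh : (w ^ e) ^ l ^ a = 1 := by
      rw [← pow_mul, mul_comm, ← hwe, pow_orderOf_eq_one]
    have hhN : ((w ^ e : normalizer ((R : Subgroup G) : Set G)) : G) ∉ N := by
      intro h
      have h2 : z ^ e = 1 := by
        rw [← hw, ← map_pow]; exact (QuotientGroup.eq_one_iff _).2 h
      exact hle (hz ▸ orderOf_dvd_of_pow_eq_one h2)
    refine le_center_of_fpf hr hl hlr R.2 hcl hidxL hcomm hx₀ (ν (w ^ e))
      ⟨a, by rw [← map_pow, hh, map_one]⟩ (hνL _) (fun y hy => ?_) hprim
    by_contra hyL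
    refine hhN ?_
    have hy' : (y : G)⁻¹ * ((w ^ e : normalizer ((R : Subgroup G) : Set G)) * y *
        ((w ^ e : normalizer ((R : Subgroup G) : Set G)) : G)⁻¹) ∈ K := hy
    generalize ((w ^ e : normalizer ((R : Subgroup G) : Set G)) : G) = h at hy' ⊢
    have hc : π h ∈ centralizer ({π y} : Set (G ⧸ K)) := by
      rw [mem_centralizer_singleton_iff]
      rw [← hπ] at hy'
      simp only [map_mul, map_inv, inv_mul_eq_one] at hy'
      exact mul_inv_eq_iff_eq_mul.1 hy'.symm
    rw [hcA _ (mem_map_of_mem π (hRN y.2)) (fun h1 => hyL ((hπ _).1 h1))] at hc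
    obtain ⟨n, hn, hnh⟩ := hc
    have hk : n⁻¹ * h ∈ K := (hπ _).1 (by rw [map_mul, map_inv, hnh, inv_mul_cancel])
    rw [show h = n * (n⁻¹ * h) by group]
    exact mul_mem hn (H.kerOf_le hk)
  obtain ⟨x, hx, hx1⟩ := exists_pow_eq_one hr hr2 hm0 R.2 hcl hidxL hcomm hexpL hcen
  obtain ⟨w, hw⟩ := isConj_iff.1 (hxconj x hx)
  have ho : orderOf (x : G) = orderOf g := by
    rw [← hw]; exact (MulAut.conj w).orderOf_eq g
  have hdvd : orderOf (x : G) ∣ r := orderOf_dvd_of_pow_eq_one (by
    simpa using congrArg Subtype.val hx1)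
  rcases (Nat.dvd_prime hr).1 hdvd with h | h
  · rw [orderOf_eq_one_iff] at h
    exact absurd (h ▸ one_mem K : (x : G) ∈ K) hx
  · rw [← ho, h]

end OneChar

end CfsgLib.Camina
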